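/-
K-flat complexes of modules over a commutative ring: closure properties.
-/
import Groth.Prelude.Def_DTen
import Groth.Agent.L00.KFlatRes

set_option autoImplicit false
set_option backward.defeqAttrib.useBackward true
set_option backward.isDefEq.respectTransparency false
set_option backward.isDefEq.respectTransparency.types false

universe u

open CategoryTheory CategoryTheory.Limits MonoidalCategory CochainComplex HomologicalComplex

namespace Groth.L10.KFlat

variable {A : Type u} [CommRing A]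

/-- filtered colimits of size `u` are exact -/
theorem ab5 : AB5OfSize.{u, u} (ModuleCat.{u} A) := inferInstance

instance hasExactColimitsOfShapeNat : HasExactColimitsOfShape ℕ (ModuleCat.{u} A) :=
  Groth.L00.KFlat.hasExactColimitsOfShapeNat_moduleCat A

instance preservesColimits_curried (M : ModuleCat.{u} A) :
    PreservesColimitsOfSize.{u, u} ((curriedTensor (ModuleCat.{u} A)).obj M) :=
  (Closed.adj (X := M)).leftAdjoint_preservesColimits

instance preservesColimits₀_curried (M : ModuleCat.{u} A) :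
    PreservesColimitsOfSize.{0, 0} ((curriedTensor (ModuleCat.{u} A)).obj M) :=
  (Closed.adj (X := M)).leftAdjoint_preservesColimits

instance ab4u : AB4OfSize.{u} (ModuleCat.{u} A) :=
  haveI : HasFiniteBiproducts (ModuleCat.{u} A) := Abelian.hasFiniteBiproducts
  AB4.of_AB5 _

instance ab4₀ : AB4OfSize.{0} (ModuleCat.{u} A) := AB4OfSize_shrink.{0, u} _

/-- tensoring preserves short exact sequences with flat quotient -/
theorem shortExact_tensor_of_flat (M : ModuleCat.{u} A) (S : ShortComplex (ModuleCat.{u} A))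
    (hS : S.ShortExact) (h3 : Module.Flat A S.X₃) :
    (S.map ((curriedTensor (ModuleCat.{u} A)).obj M)).ShortExact := by
  haveI := h3
  refine { exact := ?_, mono_f := ?_, epi_g := ?_ }
  · rw [ShortComplex.moduleCat_exact_iff_ker_sub_range]
    intro y hy
    exact (lTensor_exact _ (CategoryTheory.ShortComplex.ShortExact.moduleCat_exact_iff_function_exact _ |>.1 hS.exact)
      hS.moduleCat_surjective_g y).1 hy
  · rw [ModuleCat.mono_iff_injective]
    exact LinearMap.lTensor_injective_of_exact_of_flat S.g.hom hS.moduleCat_surjective_g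
      S.f.hom hS.moduleCat_injective_f
      (CategoryTheory.ShortComplex.ShortExact.moduleCat_exact_iff_function_exact _ |>.1 hS.exact) _
  · rw [ModuleCat.epi_iff_surjective]
    exact LinearMap.lTensor_surjective _ hS.moduleCat_surjective_g

/-- `E ↦ L ⊗ E` -/
noncomputable abbrev T (L : DRing.Cx A) : DRing.Cx A ⥤ DRing.Cx A :=
  Groth.L00.BifExact.T (curriedTensor (ModuleCat.{u} A)) L

theorem of_iso {E E' : DRing.Cx A} (e : E ≅ E') (h : DRing.IsKFlat A E) : DRing.IsKFlat A E' :=
  fun L hL i => (h L hL i).of_iso ((homologyFunctor _ _ i).mapIso ((T L).mapIso e)).symm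

theorem zero {E : DRing.Cx A} (h : IsZero E) : DRing.IsKFlat A E := fun L _ i =>
  (homologyFunctor _ _ i).map_isZero ((T L).map_isZero h)

theorem of_isColimit {J : Type*} [Category J] [HasColimitsOfShape J (ModuleCat.{u} A)]
    [HasExactColimitsOfShape J (ModuleCat.{u} A)]
    [∀ M, PreservesColimitsOfShape J ((curriedTensor (ModuleCat.{u} A)).obj M)]
    (K : J ⥤ DRing.Cx A) {c : Cocone K} (hc : IsColimit c)
    (h : ∀ j, DRing.IsKFlat A (K.obj j)) : DRing.IsKFlat A c.pt := fun L hL i =>
  Groth.L00.KFlat.acyclic_of_isColimit _ (isColimitOfPreserves (T L) hc) i (fun j => h j L hL i)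

theorem shortExact_T (L : DRing.Cx A) {S : ShortComplex (DRing.Cx A)}
    (hS : S.ShortExact) (h3 : DRing.TermwiseFlat S.X₃) : (S.map (T L)).ShortExact :=
  Groth.L00.BifExact.shortExact_T _ L S fun p q =>
    shortExact_tensor_of_flat (L.X p) _ (hS.map_of_exact (eval _ _ q)) (h3 q)

theorem two_of_three {S : ShortComplex (DRing.Cx A)}
    (hT : ∀ L, (S.map (T L)).ShortExact) :
    (DRing.IsKFlat A S.X₁ → DRing.IsKFlat A S.X₂ → DRing.IsKFlat A S.X₃) ∧
    (DRing.IsKFlat A S.X₁ → DRing.IsKFlat A S.X₃ → DRing.IsKFlat A S.X₂) ∧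
    (DRing.IsKFlat A S.X₂ → DRing.IsKFlat A S.X₃ → DRing.IsKFlat A S.X₁) := by
  refine ⟨fun h1 h2 L hL i => ?_, fun h1 h3 L hL i => ?_, fun h2 h3 L hL i => ?_⟩
  · exact ((hT L).homology_exact₃ i (i + 1) (by simp)).isZero_X₂
      ((h2 L hL i).eq_of_src _ _) ((h1 L hL (i + 1)).eq_of_tgt _ _)
  · exact ((hT L).homology_exact₂ i).isZero_X₂ ((h1 L hL i).eq_of_src _ _) ((h3 L hL i).eq_of_tgt _ _)
  · exact ((hT L).homology_exact₁ (i - 1) i (by simp)).isZero_X₂
      ((h3 L hL (i - 1)).eq_of_src _ _) ((h2 L hL i).eq_of_tgt _ _)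

theorem two_of_three_flat {S : ShortComplex (DRing.Cx A)} (hS : S.ShortExact)
    (h3 : DRing.TermwiseFlat S.X₃) :
    (DRing.IsKFlat A S.X₁ → DRing.IsKFlat A S.X₂ → DRing.IsKFlat A S.X₃) ∧
    (DRing.IsKFlat A S.X₁ → DRing.IsKFlat A S.X₃ → DRing.IsKFlat A S.X₂) ∧
    (DRing.IsKFlat A S.X₂ → DRing.IsKFlat A S.X₃ → DRing.IsKFlat A S.X₁) :=
  two_of_three fun L => shortExact_T L hS h3

theorem two_of_three_split {S : ShortComplex (DRing.Cx A)}
    (σ : ∀ q, (S.map (eval (ModuleCat.{u} A) (ComplexShape.up ℤ) q)).Splitting) :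
    (DRing.IsKFlat A S.X₁ → DRing.IsKFlat A S.X₂ → DRing.IsKFlat A S.X₃) ∧
    (DRing.IsKFlat A S.X₁ → DRing.IsKFlat A S.X₃ → DRing.IsKFlat A S.X₂) ∧
    (DRing.IsKFlat A S.X₂ → DRing.IsKFlat A S.X₃ → DRing.IsKFlat A S.X₁) :=
  two_of_three fun L => Groth.L00.BifExact.shortExact_T_of_splitting _ L S σ

/-- tensoring preserves homotopies -/
noncomputable def tensorHomotopy (L : DRing.Cx A) {E E' : DRing.Cx A}
    {f g : E ⟶ E'} (h : Homotopy f g) : Homotopy ((T L).map f) ((T L).map g) :=
  mapBifunctorMapHomotopy₂ (𝟙 L) h (curriedTensor (ModuleCat.{u} A)) (ComplexShape.up ℤ)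

/-- tensoring preserves homotopy equivalences -/
noncomputable def tensorHomotopyEquiv (L : DRing.Cx A) {E E' : DRing.Cx A} (e : HomotopyEquiv E E') :
    HomotopyEquiv ((T L).obj E) ((T L).obj E') where
  hom := (T L).map e.hom
  inv := (T L).map e.inv
  homotopyHomInvId :=
    (Homotopy.ofEq ((T L).map_comp _ _).symm).trans
      ((tensorHomotopy L e.homotopyHomInvId).trans (Homotopy.ofEq ((T L).map_id _)))
  homotopyInvHomId :=
    (Homotopy.ofEq ((T L).map_comp _ _).symm).trans
      ((tensorHomotopy L e.homotopyInvHomId).trans (Homotopy.ofEq ((T L).map_id _)))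

theorem of_homotopyEquiv {E E' : DRing.Cx A} (e : HomotopyEquiv E E')
    (h : DRing.IsKFlat A E) : DRing.IsKFlat A E' := fun L hL i =>
  (h L hL i).of_iso ((tensorHomotopyEquiv L e).toHomologyIso i).symm

/-- shifts of K-flat complexes are K-flat -/
theorem shift (E : DRing.Cx A) (k : ℤ) (h : DRing.IsKFlat A E) : DRing.IsKFlat A (E⟦k⟧) :=
  fun L hL i => by
    refine IsZero.of_iso ?_ ((homologyFunctor _ _ i).mapIso
      (CochainComplex.mapBifunctorShift₂Iso L E (curriedTensor (ModuleCat.{u} A)) k))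
    exact (h L hL (k + i)).of_iso
      ((CochainComplex.ShiftSequence.shiftIso (ModuleCat.{u} A) k i (k + i) rfl).app _)

theorem cone {P Q : DRing.Cx A} (α : P ⟶ Q) (hP : DRing.IsKFlat A P)
    (hQ : DRing.IsKFlat A Q) : DRing.IsKFlat A (mappingCone α) :=
  (two_of_three_split (mappingCone.triangleRotateShortComplexSplitting α)).2.1 hQ (shift P 1 hP)

/-- a bounded above complex of flat modules is K-flat -/
theorem of_bounded (E : DRing.Cx A) (b : ℤ) (hb : DRing.VanishesAbove E b)
    (h : DRing.TermwiseFlat E) : DRing.IsKFlat A E := fun L hL i =>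
  haveI : ∀ p, Module.Flat A (E.X p) := h
  (Groth.L00.KFlatAlg.acyclic_tensor_of_bounded_flat E b hb L hL i).of_iso
    ((homologyFunctor _ _ i).mapIso (DTen.braidCx L E))

end Groth.L10.KFlat
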