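/-
Functorial K-flat resolutions of complexes of modules over a commutative ring.
-/
import Groth.Agent.L10.KFlat.Basic
import Groth.Agent.L00.ConeTransfer

set_option autoImplicit false
set_option backward.defeqAttrib.useBackward true
set_option backward.isDefEq.respectTransparency false
set_option backward.isDefEq.respectTransparency.types false

universe u

open CategoryTheory CategoryTheory.Limits MonoidalCategory CochainComplex HomologicalComplex

namespace Groth.L10.KFlat

open CochainComplex.HomComplex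

variable {A : Type u} [CommRing A]

theorem flat_of_iso {M N : ModuleCat.{u} A} (e : M ≅ N) (h : Module.Flat A M) : Module.Flat A N :=
  haveI := h
  Module.Flat.of_linearEquiv e.symm.toLinearEquiv

theorem flat_biprod {M N : ModuleCat.{u} A} (h : Module.Flat A M) (h' : Module.Flat A N) :
    Module.Flat A ↑(M ⊞ N) :=
  haveI := h
  haveI := h'
  haveI := Groth.L00.KFlat.flat_prod (A := A) M N
  Module.Flat.of_linearEquiv (ModuleCat.biprodIsoProd M N).toLinearEquiv

theorem flat_zero {M : ModuleCat.{u} A} (h : IsZero M) : Module.Flat A M :=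
  haveI : Subsingleton M := ModuleCat.subsingleton_of_isZero h
  inferInstance

theorem flat_mappingCone {E E' : DRing.Cx A} (φ : E ⟶ E')
    (h : DRing.TermwiseFlat E) (h' : DRing.TermwiseFlat E') : DRing.TermwiseFlat (mappingCone φ) :=
  fun n => flat_of_iso (HomologicalComplex.homotopyCofiber.XIsoBiprod φ n (n + 1) rfl).symm
    (flat_biprod (h (n + 1)) (h' n))

theorem flat_colimitNat (D : ℕ ⥤ ModuleCat.{u} A) {c : Cocone D} (hc : IsColimit c)
    (h : ∀ k, Module.Flat A (D.obj k)) : Module.Flat A c.pt :=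
  haveI : ∀ N : ModuleCat.{u} A, PreservesColimitsOfShape ℕ (tensorLeft N) :=
    fun N => (Closed.adj (X := N)).leftAdjoint_preservesColimits.preservesColimitsOfShape
  Groth.L00.KFlat.flat_of_isColimit D hc h

theorem single (M : ModuleCat.{u} A) (h : Module.Flat A M) (q : ℤ) :
    DRing.IsKFlat A ((HomologicalComplex.single (ModuleCat.{u} A) (ComplexShape.up ℤ) q).obj M) :=
  of_bounded _ q (fun n hn => HomologicalComplex.isZero_single_obj_X _ _ _ _ hn.ne') fun n => by
    by_cases hn : n = q
    · subst hn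
      exact flat_of_iso (HomologicalComplex.singleObjXSelf _ _ _).symm h
    · exact flat_zero (HomologicalComplex.isZero_single_obj_X _ _ _ _ hn)

/-- complexes with zero differential and flat terms are K-flat -/
theorem of_zeroDiff (E : DRing.Cx A) (hd : ∀ m n, E.d m n = 0)
    (h : DRing.TermwiseFlat E) : DRing.IsKFlat A E := by
  let S : ℤ → DRing.Cx A := fun q =>
    (HomologicalComplex.single (ModuleCat.{u} A) (ComplexShape.up ℤ) q).obj (E.X q)
  haveI : HasColimitsOfSize.{0, 0} (ModuleCat.{u} A) := hasColimitsOfSizeShrink.{0, 0, u, u} _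
  let d : ∀ q, S q ⟶ E := fun q =>
    HomologicalComplex.mkHomFromSingle (𝟙 (E.X q)) (fun n _ => by rw [hd, comp_zero])
  let f : (∐ S) ⟶ E := Sigma.desc d
  haveI : ∀ m, IsIso (f.f m) := fun m => by
    let g : E.X m ⟶ (∐ S).X m :=
      (HomologicalComplex.singleObjXSelf (ComplexShape.up ℤ) m (E.X m)).inv ≫ (Sigma.ι S m).f m
    refine ⟨⟨g, ?_, ?_⟩⟩
    · refine (isColimitOfPreserves (HomologicalComplex.eval (ModuleCat.{u} A) (ComplexShape.up ℤ) m)
        (colimit.isColimit (Discrete.functor S))).hom_ext ?_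
      rintro ⟨q⟩
      change (Sigma.ι S q).f m ≫ f.f m ≫ g = (Sigma.ι S q).f m ≫ 𝟙 _
      rw [← Category.assoc, ← HomologicalComplex.comp_f, Sigma.ι_desc, Category.comp_id]
      by_cases hq : m = q
      · subst hq
        simp [d, g]
      · exact (HomologicalComplex.isZero_single_obj_X _ _ _ _ hq).eq_of_src _ _
    · change _ ≫ f.f m = _
      rw [Category.assoc, ← HomologicalComplex.comp_f, Sigma.ι_desc]
      simp [d]
  haveI := HomologicalComplex.Hom.isIso_of_components f
  exact of_iso (asIso f) (of_isColimit (Discrete.functor S) (colimit.isColimit _)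
    fun j => single _ (h j.as) j.as)

theorem mappingCone_of_zeroDiff {P N : DRing.Cx A} (φ : P ⟶ N)
    (hd : ∀ m n, P.d m n = 0) (hP : DRing.TermwiseFlat P) (hN : DRing.IsKFlat A N) :
    DRing.IsKFlat A (mappingCone φ) :=
  cone φ (of_zeroDiff P hd hP) hN

variable (A)

/-- free covers -/
noncomputable def cover : ModuleCat.{u} A ⥤ ModuleCat.{u} A := forget (ModuleCat.{u} A) ⋙ ModuleCat.free A

/-- their augmentation -/
noncomputable def π : cover A ⟶ 𝟭 _ := (ModuleCat.adj A).counit

instance epi_π (M : ModuleCat.{u} A) : Epi ((π A).app M) :=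
  inferInstanceAs (Epi ((ModuleCat.adj A).counit.app M))

theorem flat_cover (M : ModuleCat.{u} A) : Module.Flat A ((cover A).obj M) :=
  inferInstanceAs (Module.Flat A (M →₀ A))

/-- the cell tower -/
noncomputable abbrev Res : Arrow (DRing.Cx A) ⥤ DRing.Cx A := Groth.L00.Cell.res (cover A) (π A)

variable {A}

theorem isKFlat_res (e : Arrow (DRing.Cx A)) (h : DRing.IsKFlat A e.left) :
    DRing.IsKFlat A ((Res A).obj e) :=
  Groth.L00.Cell.res_induction (cover A) (π A) e (fun N => DRing.IsKFlat A N) h
    (fun f ih => mappingCone_of_zeroDiff _ (fun _ _ => rfl) (fun n => flat_cover A _) ih)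
    (fun K c hc hK => of_isColimit K hc hK)

theorem flat_res (e : Arrow (DRing.Cx A)) (h : DRing.TermwiseFlat e.left) :
    DRing.TermwiseFlat ((Res A).obj e) :=
  Groth.L00.Cell.res_induction (cover A) (π A) e (fun N => DRing.TermwiseFlat N) h
    (fun f ih => flat_mappingCone _ (fun m => flat_cover A _) ih)
    (fun K c hc hK n => flat_colimitNat _
      (isColimitOfPreserves (HomologicalComplex.eval (ModuleCat.{u} A) (ComplexShape.up ℤ) n) hc)
      (fun k => hK k n))

/-- a contractible flat complex covering every degree -/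
noncomputable def coverCx (G : DRing.Cx A) : DRing.Cx A where
  X p := (cover A).obj (G.X (p - 1))
  d _ _ := 0
  shape _ _ _ := rfl
  d_comp_d' _ _ _ _ _ := comp_zero

/-- the covering cochain -/
noncomputable def coverCochain (G : DRing.Cx A) : Cochain (coverCx G) G (-1) :=
  Cochain.mk fun p q hpq =>
    (π A).app _ ≫ (G.XIsoOfEq (show p - 1 = q by omega)).hom

/-- its coboundary -/
noncomputable def coverHom (G : DRing.Cx A) : coverCx G ⟶ G :=
  Cocycle.homOf (Cocycle.mk (δ (-1) 0 (coverCochain G)) 1 (by omega) (δ_δ _ _ _ _))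

/-- the contractible start -/
noncomputable def start (G : DRing.Cx A) : DRing.Cx A := mappingCone (𝟙 (coverCx G))

/-- its map to `G` -/
noncomputable def startHom (G : DRing.Cx A) : start G ⟶ G :=
  mappingCone.desc (𝟙 (coverCx G)) (coverCochain G) (coverHom G) (by
    ext p
    simp [coverHom, Cocycle.homOf])

theorem epi_startHom_f (G : DRing.Cx A) (n : ℤ) : Epi ((startHom G).f n) := by
  haveI : Epi ((mappingCone.inl (𝟙 (coverCx G))).v (n + 1) n (by omega) ≫ (startHom G).f n) := by
    rw [startHom, mappingCone.inl_v_desc_f]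
    simp only [coverCochain, Cochain.mk_v]
    exact epi_comp _ _
  exact epi_of_epi ((mappingCone.inl (𝟙 (coverCx G))).v (n + 1) n _) _

theorem flat_start (G : DRing.Cx A) : DRing.TermwiseFlat (start G) :=
  flat_mappingCone _ (fun _ => flat_cover A _) (fun _ => flat_cover A _)

theorem isKFlat_start (G : DRing.Cx A) : DRing.IsKFlat A (start G) :=
  mappingCone_of_zeroDiff _ (fun _ _ => rfl) (fun _ => flat_cover A _)
    (of_zeroDiff _ (fun _ _ => rfl) (fun _ => flat_cover A _))

/-- factorisation through a K-flat complex, degreewise epimorphic -/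
theorem exists_factor {K L : DRing.Cx A} (a : K ⟶ L) (hK : DRing.IsKFlat A K) :
    ∃ (N : DRing.Cx A) (b : K ⟶ N) (c : N ⟶ L), DRing.IsKFlat A N ∧ QuasiIso c ∧
      b ≫ c = a ∧ (∀ n, Epi (c.f n)) ∧ (DRing.TermwiseFlat K → DRing.TermwiseFlat N) := by
  let e : Arrow (DRing.Cx A) := Arrow.mk (biprod.desc a (startHom L))
  have hio : (Groth.L00.Cell.resIn _ _).app e ≫ (Groth.L00.Cell.resOut _ _).app e = e.hom :=
    NatTrans.congr_app (Groth.L00.Cell.resIn_resOut (cover A) (π A)) e
  refine ⟨(Res A).obj e, biprod.inl ≫ (Groth.L00.Cell.resIn _ _).app e, (Groth.L00.Cell.resOut _ _).app e,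
    isKFlat_res e ?_, Groth.L00.Cell.quasiIso_resOut _ _ e, ?_, fun n => ?_, fun hfl => flat_res e fun n => ?_⟩
  · let S : ShortComplex (DRing.Cx A) :=
      ShortComplex.mk (biprod.inl : K ⟶ K ⊞ start L) biprod.snd (by simp)
    have σ : S.Splitting := { r := biprod.fst, s := biprod.inr }
    exact (two_of_three_split (S := S)
      fun q => σ.map (HomologicalComplex.eval (ModuleCat.{u} A) (ComplexShape.up ℤ) q)).2.1 hK (isKFlat_start L)
  · rw [Category.assoc, hio]
    exact biprod.inl_desc _ _
  · haveI : Epi ((startHom L).f n) := epi_startHom_f L n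
    have : ((biprod.inr : start L ⟶ K ⊞ start L) ≫ (Groth.L00.Cell.resIn _ (π A)).app e).f n ≫
        ((Groth.L00.Cell.resOut _ (π A)).app e).f n = (startHom L).f n := by
      rw [← HomologicalComplex.comp_f, Category.assoc, hio]
      exact congrArg (fun t => HomologicalComplex.Hom.f t n) (biprod.inr_desc _ _)
    exact epi_of_epi_fac this
  · exact flat_of_iso
      ((HomologicalComplex.eval (ModuleCat.{u} A) (ComplexShape.up ℤ) n).mapBiprod K (start L)).symm
      (flat_biprod (hfl n) (flat_start L n))

/-- K-flat resolutions -/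
theorem exists_resolution (G : DRing.Cx A) :
    ∃ (K : DRing.Cx A) (q : K ⟶ G), DRing.IsKFlat A K ∧ DRing.TermwiseFlat K ∧
      QuasiIso q ∧ ∀ n : ℤ, Epi (q.f n) := by
  have hz : IsZero (HomologicalComplex.zero : DRing.Cx A) := HomologicalComplex.isZero_zero
  obtain ⟨N, b, c, hN, hc, -, he, hf⟩ :=
    exists_factor (0 : (HomologicalComplex.zero : DRing.Cx A) ⟶ G) (zero hz)
  exact ⟨N, c, hN, hf (fun n => flat_zero
    ((HomologicalComplex.eval (ModuleCat.{u} A) (ComplexShape.up ℤ) n).map_isZero hz)), hc, he⟩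

/-- an acyclic K-flat complex stays acyclic after tensoring with anything -/
theorem acyclic_tensor (K : DRing.Cx A) (hK : DRing.IsKFlat A K)
    (hacyc : ∀ i, IsZero (K.homology i)) (L : DRing.Cx A) (i : ℤ) :
    IsZero ((L ⊗ K).homology i) := by
  have key : ∀ R : DRing.Cx A, DRing.IsKFlat A R → ∀ i, IsZero (((T K).obj R).homology i) :=
    fun R hR => hR K hacyc
  obtain ⟨R, r, hR, -, hr, -⟩ := exists_resolution L
  haveI := hr
  have hC : ∀ i, IsZero (((T K).obj (mappingCone r)).homology i) := fun i =>
    (hK (mappingCone r) (Groth.L00.ConeTransfer.acyclic_cone r) i).of_iso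
      ((homologyFunctor _ _ i).mapIso (DTen.braidCx K (mappingCone r)))
  have hS := Groth.L00.BifExact.shortExact_T_of_splitting (curriedTensor (ModuleCat.{u} A)) K
    (mappingCone.triangleRotateShortComplex r) (mappingCone.triangleRotateShortComplexSplitting r)
  refine IsZero.of_iso ?_ ((homologyFunctor _ _ i).mapIso (DTen.braidCx L K))
  exact (hS.homology_exact₁ (i - 1) i (by simp)).isZero_X₂
    ((key _ (shift R 1 hR) (i - 1)).eq_of_src _ _) ((hC i).eq_of_tgt _ _)

/-- `cone (𝟙 P)` tensored stays acyclic -/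
theorem acyclic_tensor_cone_id (L P : DRing.Cx A) (i : ℤ) :
    IsZero (((T L).obj (mappingCone (𝟙 P))).homology i) :=
  (((homologyFunctor _ _ i).map_isZero
      (HomologicalComplex.isZero_zero)).of_iso
      ((tensorHomotopyEquiv L
        { hom := 0
          inv := 0
          homotopyHomInvId := (Homotopy.ofEq (by simp)).trans (mappingCone.homotopyToZeroOfId P).symm
          homotopyInvHomId := Homotopy.ofEq (HomologicalComplex.isZero_zero.eq_of_src _ _) :
          HomotopyEquiv (mappingCone (𝟙 P)) (HomologicalComplex.zero : DRing.Cx A) }).toHomologyIso i ≪≫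
        (homologyFunctor _ _ i).mapIso ((T L).map_isZero HomologicalComplex.isZero_zero).isoZero ≪≫
        (homologyFunctor _ _ i).mapIso HomologicalComplex.isZero_zero.isoZero.symm))

/-- tensoring with a K-flat complex keeps quasi-isomorphisms (second variable) -/
theorem quasiIso_whiskerRight {L₁ L₂ : DRing.Cx A} (f : L₁ ⟶ L₂) [QuasiIso f] {K : DRing.Cx A}
    (hK : DRing.IsKFlat A K) : QuasiIso (f ▷ K) := by
  haveI : QuasiIso ((T K).map f) := Groth.L00.ConeTransfer.quasiIso_map (T K)
    (fun S σ => Groth.L00.BifExact.shortExact_T_of_splitting _ K S σ) f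
    (fun i => acyclic_tensor_cone_id K L₁ i)
    (fun i => (hK _ (Groth.L00.ConeTransfer.acyclic_cone f) i).of_iso
      ((homologyFunctor _ _ i).mapIso (DTen.braidCx K (mappingCone f))))
  have hn : (f ⊗ₘ 𝟙 K) ≫ (DTen.braidCx L₂ K).hom = (DTen.braidCx L₁ K).hom ≫ (T K).map f :=
    DTen.braidCx_naturality f (𝟙 K)
  rw [MonoidalCategory.tensorHom_id] at hn
  haveI : QuasiIso ((f ▷ K) ≫ (DTen.braidCx L₂ K).hom) := by
    rw [hn]; infer_instance
  exact quasiIso_of_comp_right _ (DTen.braidCx L₂ K).hom

/-- tensoring keeps quasi-isomorphisms between K-flat complexes -/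
theorem quasiIso_whiskerLeft {P Q : DRing.Cx A} (α : P ⟶ Q) [QuasiIso α]
    (hP : DRing.IsKFlat A P) (hQ : DRing.IsKFlat A Q) (L : DRing.Cx A) : QuasiIso (L ◁ α) := by
  haveI : QuasiIso ((T L).map α) :=
    Groth.L00.ConeTransfer.quasiIso_map (T L)
      (fun S σ => Groth.L00.BifExact.shortExact_T_of_splitting _ L S σ) α
      (fun i => acyclic_tensor_cone_id L P i)
      (fun i => acyclic_tensor _ (cone α hP hQ) (Groth.L00.ConeTransfer.acyclic_cone α) L i)
  have hn : L ◁ α = (T L).map α := (MonoidalCategory.id_tensorHom L α).symm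
  rw [hn]; infer_instance

end Groth.L10.KFlat
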