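/-
Functorial K-flat resolutions, as a functor with an augmentation.
-/
import Groth.Agent.L10.KFlat.Res

set_option autoImplicit false
set_option backward.defeqAttrib.useBackward true
set_option backward.isDefEq.respectTransparency false
set_option backward.isDefEq.respectTransparency.types false

universe u

open CategoryTheory CategoryTheory.Limits MonoidalCategory

attribute [local instance] HasDerivedCategory.standard

namespace Groth.L10.KFlat

variable (A : Type u) [CommRing A]

/-- `K ↦ (0 ⟶ K)` -/
noncomputable def fromZero : DRing.Cx A ⥤ Arrow (DRing.Cx A) where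
  obj K := Arrow.mk (0 : (HomologicalComplex.zero : DRing.Cx A) ⟶ K)
  map {K K'} f := Arrow.homMk (f := Arrow.mk (0 : (HomologicalComplex.zero : DRing.Cx A) ⟶ K))
    (g := Arrow.mk (0 : (HomologicalComplex.zero : DRing.Cx A) ⟶ K'))
    (𝟙 (HomologicalComplex.zero : DRing.Cx A)) f (HomologicalComplex.isZero_zero.eq_of_src _ _)
  map_id K := Arrow.hom_ext _ _ rfl rfl
  map_comp f g := Arrow.hom_ext _ _ (Category.id_comp _).symm rfl

/-- the functorial K-flat resolution -/
noncomputable def R : DRing.Cx A ⥤ DRing.Cx A := fromZero A ⋙ Res A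

/-- its augmentation -/
noncomputable def r : R A ⟶ 𝟭 _ :=
  Functor.whiskerLeft (fromZero A) (Groth.L00.Cell.resOut (cover A) (π A))

variable {A}

theorem isKFlat_R (K : DRing.Cx A) : DRing.IsKFlat A ((R A).obj K) :=
  isKFlat_res _ (zero HomologicalComplex.isZero_zero)

instance quasiIso_r (K : DRing.Cx A) : QuasiIso ((r A).app K) :=
  Groth.L00.Cell.quasiIso_resOut _ _ ((fromZero A).obj K)

theorem quasiIso_R_map {K K' : DRing.Cx A} (f : K ⟶ K') [QuasiIso f] : QuasiIso ((R A).map f) := by
  have h := (r A).naturality f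
  dsimp at h
  haveI : QuasiIso ((R A).map f ≫ (r A).app K') := by rw [h]; infer_instance
  exact quasiIso_of_comp_right ((R A).map f) ((r A).app K')

theorem isIso_Q_map {K K' : DRing.Cx A} (f : K ⟶ K') (h : QuasiIso f) :
    IsIso (DerivedCategory.Q.map f) :=
  (DerivedCategory.isIso_Q_map_iff_quasiIso _ f).2 h

/-- every object of `D(A)` has a K-flat representative -/
theorem exists_rep (X : Dual.D A) :
    ∃ K : DRing.Cx A, DRing.IsKFlat A K ∧ Nonempty (DerivedCategory.Q.obj K ≅ X) := by
  haveI := Localization.essSurj (DerivedCategory.Q : DRing.Cx A ⥤ Dual.D A)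
    (HomologicalComplex.quasiIso (ModuleCat.{u} A) (ComplexShape.up ℤ))
  let K₀ := (DerivedCategory.Q : DRing.Cx A ⥤ Dual.D A).objPreimage X
  haveI := isIso_Q_map ((r A).app K₀) inferInstance
  exact ⟨(R A).obj K₀, isKFlat_R K₀, ⟨asIso (DerivedCategory.Q.map ((r A).app K₀)) ≪≫
    DerivedCategory.Q.objObjPreimageIso X⟩⟩

/-- tensor of two K-flat complexes is K-flat -/
theorem isKFlat_tensor {K L : DRing.Cx A} (hK : DRing.IsKFlat A K) (hL : DRing.IsKFlat A L) :
    DRing.IsKFlat A (K ⊗ L) := fun M hM i =>
  (hL _ (hK M hM) i).of_iso ((HomologicalComplex.homologyFunctor _ _ i).mapIso (α_ M K L).symm)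

/-- the unit is K-flat -/
theorem isKFlat_unit : DRing.IsKFlat A (𝟙_ (DRing.Cx A)) :=
  single _ (inferInstanceAs (Module.Flat A A)) 0

end Groth.L10.KFlat
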