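/-
A complex whose tensor product with every finitely presented module is acyclic is K-flat.
-/
import Groth.Agent.L10.KFlat.Basic
import Mathlib.Algebra.Module.FinitePresentation

set_option autoImplicit false
set_option backward.defeqAttrib.useBackward true
set_option backward.isDefEq.respectTransparency false
set_option backward.isDefEq.respectTransparency.types false

universe u

open CategoryTheory CategoryTheory.Limits MonoidalCategory CochainComplex HomologicalComplex
open scoped TensorProduct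

namespace Groth.L10.KFlat

variable {A : Type u} [CommRing A]

section Elements

variable {P Q M : Type u} [AddCommGroup P] [Module A P] [AddCommGroup Q] [Module A Q]
  [AddCommGroup M] [Module A M] (f : P →ₗ[A] Q)

/-- a cycle of `K ⊗ M` comes from a cycle of `K ⊗ M'` with `M'` finitely presented -/
theorem exists_fp_lift (z : P ⊗[A] M) (hz : f.rTensor M z = 0) :
    ∃ (M' : Type u) (_ : AddCommGroup M') (_ : Module A M') (_ : Module.FinitePresentation A M')
      (g : M' →ₗ[A] M) (z' : P ⊗[A] M'), f.rTensor M' z' = 0 ∧ g.lTensor P z' = z := by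
  classical
  let φ : (M →₀ A) →ₗ[A] M := Finsupp.linearCombination A id
  have hφ : Function.Surjective φ := fun m => ⟨Finsupp.single m 1, by simp [φ]⟩
  obtain ⟨zF, rfl⟩ := LinearMap.lTensor_surjective P hφ z
  have he : Function.Exact ⇑(LinearMap.ker φ).subtype ⇑φ := fun v => ⟨fun hv => ⟨⟨v, hv⟩, rfl⟩, fun ⟨w, hw⟩ => hw ▸ w.2⟩
  have hk : φ.lTensor Q (f.rTensor _ zF) = 0 := by
    rw [← LinearMap.comp_apply, LinearMap.lTensor_comp_rTensor, ← LinearMap.rTensor_comp_lTensor,
      LinearMap.comp_apply]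
    exact hz
  obtain ⟨y, hy⟩ := (lTensor_exact (M := ↥(LinearMap.ker φ)) (f := (LinearMap.ker φ).subtype) Q he hφ _).1 hk
  obtain ⟨s, rfl⟩ := TensorProduct.exists_finset zF
  obtain ⟨t, rfl⟩ := TensorProduct.exists_finset y
  let S : Finset M := (s.biUnion fun p => p.2.support) ∪ (t.biUnion fun p => p.2.1.support)
  let ρ : (M →₀ A) →ₗ[A] (S →₀ A) := Finsupp.lcomapDomain (↑·) Subtype.val_injective
  let R : Submodule A (S →₀ A) := Submodule.span A ↑(t.image fun p => ρ p.2.1)
  haveI : Module.FinitePresentation A ((S →₀ A) ⧸ R) :=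
    Module.finitePresentation_of_surjective R.mkQ R.mkQ_surjective
      (by rw [Submodule.ker_mkQ]; exact Submodule.fg_span (Finset.finite_toSet _))
  let ψ : (S →₀ A) →ₗ[A] M := Finsupp.linearCombination A Subtype.val
  have hρ : ∀ v : M →₀ A, v.support ⊆ S → ψ (ρ v) = φ v := by
    intro v hv
    have : Finsupp.mapDomain Subtype.val (ρ v) = v := by
      refine Finsupp.mapDomain_comapDomain (Subtype.val : S → M) Subtype.val_injective v ?_
      intro m hm
      exact ⟨⟨m, hv hm⟩, rfl⟩
    conv_rhs => rw [← this]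
    simp only [φ, ψ, Finsupp.linearCombination_mapDomain]
    rfl
  have hR : R ≤ LinearMap.ker ψ := by
    refine Submodule.span_le.2 fun v hv => ?_
    obtain ⟨p, hp, rfl⟩ := Finset.mem_image.1 hv
    have : ψ (ρ p.2.1) = φ p.2.1 := hρ _ fun m hm =>
      Finset.mem_union_right _ (Finset.mem_biUnion.2 ⟨p, hp, hm⟩)
    exact this.trans p.2.2
  refine ⟨(S →₀ A) ⧸ R, inferInstance, inferInstance, inferInstance, R.liftQ ψ hR,
    (R.mkQ ∘ₗ ρ).lTensor P (∑ p ∈ s, p.1 ⊗ₜ[A] p.2), ?_, ?_⟩
  · rw [← LinearMap.comp_apply (f.rTensor _) ((R.mkQ ∘ₗ ρ).lTensor P), LinearMap.rTensor_comp_lTensor,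
      ← LinearMap.lTensor_comp_rTensor, LinearMap.comp_apply, ← hy, map_sum, map_sum]
    refine Finset.sum_eq_zero fun p hp => ?_
    rw [LinearMap.lTensor_tmul, LinearMap.lTensor_tmul]
    have : (R.mkQ ∘ₗ ρ) ((LinearMap.ker φ).subtype p.2) = 0 :=
      (Submodule.Quotient.mk_eq_zero R).2 (Submodule.subset_span (Finset.mem_image.2 ⟨p, hp, rfl⟩))
    rw [this, TensorProduct.tmul_zero]
  · rw [map_sum, map_sum, map_sum]
    refine Finset.sum_congr rfl fun p hp => ?_
    simp only [LinearMap.lTensor_tmul, LinearMap.comp_apply, Submodule.mkQ_apply, Submodule.liftQ_apply]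
    rw [hρ _ fun m hm => Finset.mem_union_left _ (Finset.mem_biUnion.2 ⟨p, hp, hm⟩)]

end Elements

open Groth.L28.TensorCx

variable (K : DRing.Cx A)
  (hK : ∀ (M : Type u) [AddCommGroup M] [Module A M], Module.FinitePresentation A M →
      (∀ i : ℤ, IsZero ((DRing.tensorCx K (ModuleCat.of A M)).homology i)))

include hK in
/-- `M ⊗ K` is exact for every module `M` -/
theorem exact_lTensor (M : Type u) [AddCommGroup M] [Module A M] (q : ℤ) (z : M ⊗[A] K.X q)
    (hz : (K.d q (q + 1)).hom.lTensor M z = 0) : ∃ w, (K.d (q - 1) q).hom.lTensor M w = z := by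
  let z₁ : K.X q ⊗[A] M := TensorProduct.comm A M (K.X q) z
  have hcomm : ∀ {N N' : Type u} [AddCommGroup N] [Module A N] [AddCommGroup N'] [Module A N'] (f : N →ₗ[A] N')
      (v : M ⊗[A] N), f.rTensor M (TensorProduct.comm A M N v) = TensorProduct.comm A M N' (f.lTensor M v) := by
    intro N N' _ _ _ _ f v
    induction v using TensorProduct.induction_on with
    | zero => simp
    | tmul a b => rfl
    | add a b ha hb => simp only [map_add, ha, hb]
  have h₁ : (K.d q (q + 1)).hom.rTensor M z₁ = 0 := by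
    rw [hcomm, hz, map_zero]
  obtain ⟨M', _, _, hfp, g, z', hz', hg⟩ := exists_fp_lift (K.d q (q + 1)).hom z₁ h₁
  have he := ((exactAt_iff' (DRing.tensorCx K (ModuleCat.of A M')) (q - 1) q (q + 1) (by simp) (by simp)).1
    ((HomologicalComplex.exactAt_iff_isZero_homology _ _).2 (hK M' hfp q)))
  rw [ShortComplex.moduleCat_exact_iff] at he
  obtain ⟨w', hw'⟩ := he z' hz'
  refine ⟨(TensorProduct.comm A M _).symm (g.lTensor _ w'), (TensorProduct.comm A M (K.X q)).injective ?_⟩
  rw [← hcomm, LinearEquiv.apply_symm_apply, ← LinearMap.comp_apply, LinearMap.rTensor_comp_lTensor,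
    ← LinearMap.lTensor_comp_rTensor, LinearMap.comp_apply]
  exact (congrArg (g.lTensor (K.X q)) hw').trans hg

include hK in
/-- the bounded above case -/
theorem exact_tensor_bounded (L : DRing.Cx A) (m : ℤ) (hL : ∀ p, m < p → IsZero (L.X p)) (j : ℤ) :
    ∀ (k : ℕ) (r : ℤ), m + 1 - (k : ℤ) ≤ r → ∀ x : (HomologicalComplex.tensorObj L K).X j,
      x ∈ fil L K j (fun p _ => r ≤ p) → (HomologicalComplex.tensorObj L K).d j (j + 1) x = 0 →
      ∃ u, (HomologicalComplex.tensorObj L K).d (j - 1) j u = x := by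
  intro k
  induction k with
  | zero =>
    intro r hr x hx _
    rw [fil_eq_bot L K (fun p q _ (h : r ≤ p) =>
      Groth.L28.TensorQis.subsingleton_tensor_left _ (hL p (by omega)))] at hx
    exact ⟨0, by rw [map_zero]; exact hx.symm⟩
  | succ k ih =>
    intro r hr x hx hd
    obtain ⟨q, rfl⟩ : ∃ q, r + q = j := ⟨j - r, by omega⟩
    obtain ⟨z, hz⟩ := exists_sub_ins_mem L K (a := r) (b := q) (n := r + q) rfl
      (T := fun p _ => r + 1 ≤ p) (fun p q' h (hp : r ≤ p) => by
        rcases eq_or_lt_of_le hp with h' | h'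
        · exact Or.inr ⟨h'.symm, by omega⟩
        · exact Or.inl (by omega)) hx
    have hz0 : (K.d q (q + 1)).hom.lTensor (L.X r) z = 0 := by
      have h0 := proj_eq_zero_of_mem_fil L K (a := r) (b := q + 1) (fun (h : r + 1 ≤ r) => by omega)
        (Groth.L28.TensorQis.d_mem_fil L K (n' := r + q + 1) rfl hz)
      rw [map_sub, hd, zero_sub, map_neg, neg_eq_zero,
        Groth.L28.TensorQis.d_ins' L K r q (r + q) rfl (by omega) (by omega), map_add,
        proj_ins_ne L K _ (fun h => by omega), zero_add, map_zsmul, proj_ins_self] at h0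
      rcases Int.units_eq_one_or r.negOnePow with h | h <;> simpa [h] using h0
    obtain ⟨w, hw⟩ := exact_lTensor K hK (L.X r) q z hz0
    let u : (HomologicalComplex.tensorObj L K).X (r + q - 1) :=
      ((r.negOnePow : ℤˣ) : ℤ) • ins L K r (q - 1) (r + q - 1) (by omega) w
    have hu : x - (HomologicalComplex.tensorObj L K).d (r + q - 1) (r + q) u ∈ fil L K (r + q) (fun p _ => r + 1 ≤ p) := by
      have e : (HomologicalComplex.tensorObj L K).d (r + q - 1) (r + q) (ins L K r (q - 1) (r + q - 1) (by omega) w) =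
          ins L K (r + 1) (q - 1) (r + q) (by omega) ((L.d r (r + 1)).hom.rTensor _ w) +
            ((r.negOnePow : ℤˣ) : ℤ) • ins L K r q (r + q) rfl z := by
        have := d_ins L K r (q - 1) (r + q - 1) (r + q) (r + 1) q (by omega) (by simp) (by simp) (by simp)
          (by omega) (by omega) w
        rwa [ComplexShape.ε_up_ℤ, hw] at this
      rw [map_zsmul, e, smul_add, smul_smul, ← Units.val_mul, Int.units_mul_self, Units.val_one, one_smul,
        sub_add_eq_sub_sub_swap]
      exact sub_mem hz (zsmul_mem (ins_mem_fil L K (n := r + q) (S := fun p _ => r + 1 ≤ p) _ le_rfl _) _)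
    obtain ⟨u', hu'⟩ := ih (r + 1) (by omega) _ hu (by
      rw [map_sub, hd, zero_sub, neg_eq_zero, ← ConcreteCategory.comp_apply,
        HomologicalComplex.d_comp_d]
      rfl)
    exact ⟨u' + u, by rw [map_add, hu', sub_add_cancel]⟩

section Cut

variable (L : DRing.Cx A) (m : ℤ)

/-- the terms of the subcomplex of `L` cut off in degree `m` -/
noncomputable def cutSub (p : ℤ) : Submodule A (L.X p) :=
  if p < m then ⊤ else if p = m then LinearMap.ker (L.d p (p + 1)).hom else ⊥

theorem d_mem_cutSub (i j : ℤ) (v : L.X i) (hv : v ∈ cutSub L m i) :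
    (L.d i j).hom v ∈ cutSub L m j := by
  by_cases hij : i + 1 = j
  · subst hij
    unfold cutSub at hv ⊢
    split_ifs at hv with h₁ h₂
    · split_ifs with h₃ h₄
      · exact Submodule.mem_top
      · rw [LinearMap.mem_ker, ← LinearMap.comp_apply, ← ModuleCat.hom_comp, HomologicalComplex.d_comp_d]
        rfl
      · omega
    · rw [show (L.d i (i + 1)).hom v = 0 from hv]
      exact Submodule.zero_mem _
    · rw [(Submodule.mem_bot A).1 hv, map_zero]
      exact Submodule.zero_mem _
  · rw [L.shape i j hij]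
    exact Submodule.zero_mem _

/-- the subcomplex of `L` cut off in degree `m` -/
noncomputable def cut : DRing.Cx A where
  X p := ModuleCat.of A (cutSub L m p)
  d i j := ModuleCat.ofHom ((L.d i j).hom.restrict (d_mem_cutSub L m i j))
  shape i j h := by
    refine ModuleCat.hom_ext (LinearMap.ext fun v => Subtype.ext ?_)
    exact congrArg (fun f => f.hom v.1) (L.shape i j h)
  d_comp_d' i j k _ _ := by
    refine ModuleCat.hom_ext (LinearMap.ext fun v => Subtype.ext ?_)
    exact congrArg (fun f => f.hom v.1) (L.d_comp_d i j k)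

/-- its inclusion -/
noncomputable def cutι : cut L m ⟶ L where
  f p := ModuleCat.ofHom (cutSub L m p).subtype
  comm' _ _ _ := rfl

theorem isIso_cutι_f (p : ℤ) (hp : p < m) : IsIso ((cutι L m).f p) :=
  (ConcreteCategory.isIso_iff_bijective _).2
    ⟨Subtype.val_injective, fun v => ⟨⟨v, by simp [cutSub, hp]⟩, rfl⟩⟩

theorem isZero_cut_X (p : ℤ) (hp : m < p) : IsZero ((cut L m).X p) := by
  refine ModuleCat.isZero_iff_subsingleton.2 ?_
  change Subsingleton (cutSub L m p)
  rw [cutSub, if_neg (by omega), if_neg (by omega)]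
  infer_instance

end Cut

theorem exists_mem_of_directed_iSup (L E : DRing.Cx A) (n : ℤ)
    (B : ℕ → Submodule A ((HomologicalComplex.tensorObj L E).X n)) (hdir : Directed (· ≤ ·) B)
    (hB : ∀ (p q : ℤ) (h : p + q = n) w, ins L E p q n h w ∈ B p.natAbs)
    (z : (HomologicalComplex.tensorObj L E).X n) : ∃ N, z ∈ B N := by
  refine (Submodule.mem_iSup_of_directed B hdir).1 ?_
  let T := ⨆ N, B N
  have h0 : (ModuleCat.ofHom T.mkQ : (HomologicalComplex.tensorObj L E).X n ⟶ ModuleCat.of A _) = 0 :=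
    hom_ext fun p q h w => (Submodule.Quotient.mk_eq_zero T).mpr
      (Submodule.mem_iSup_of_mem p.natAbs (hB p q h w))
  exact (Submodule.Quotient.mk_eq_zero T).mp (ConcreteCategory.congr_hom h0 z)

theorem directed_box (L E : DRing.Cx A) (n : ℤ) :
    Directed (· ≤ ·) (fun N : ℕ => fil L E n (fun p _ => -(N : ℤ) ≤ p ∧ p ≤ N)) := fun a b =>
  ⟨max a b, fil_mono L E (fun p q _ (h : -(a : ℤ) ≤ p ∧ p ≤ a) => ⟨by omega, by omega⟩),
    fil_mono L E (fun p q _ (h : -(b : ℤ) ≤ p ∧ p ≤ b) => ⟨by omega, by omega⟩)⟩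

theorem ins_mem_box (L E : DRing.Cx A) (n p q : ℤ) (h : p + q = n) (w : L.X p ⊗[A] E.X q) :
    ins L E p q n h w ∈ fil L E n (fun p' _ => -(p.natAbs : ℤ) ≤ p' ∧ p' ≤ p.natAbs) :=
  ins_mem_fil L E h (show -(p.natAbs : ℤ) ≤ p ∧ p ≤ p.natAbs by omega) w

/-- supports are finite -/
theorem mem_fil_bounded (L E : DRing.Cx A) (n : ℤ) (z : (HomologicalComplex.tensorObj L E).X n) :
    ∃ N : ℕ, z ∈ fil L E n (fun p _ => -(N : ℤ) ≤ p ∧ p ≤ N) :=
  exists_mem_of_directed_iSup L E n _ (directed_box L E n) (ins_mem_box L E n) z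

set_option maxHeartbeats 1000000 in
include hK in
theorem of_tensor_fp : DRing.IsKFlat A K := by
  intro L _ j
  refine (HomologicalComplex.exactAt_iff_isZero_homology _ _).1
    ((exactAt_iff' (HomologicalComplex.tensorObj L K) (j - 1) j (j + 1) (by simp) (by simp)).2 ?_)
  rw [ShortComplex.moduleCat_exact_iff]
  intro (x : (HomologicalComplex.tensorObj L K).X j) hx
  obtain ⟨N, hN⟩ := mem_fil_bounded L K j x
  -- a bounded above subcomplex
  let m : ℤ := N + 2
  let L' := cut L m
  let ι : L' ⟶ L := cutι L m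
  have hi : ∀ p : ℤ, p < m → IsIso (ι.f p) := isIso_cutι_f L m
  let ρ : ∀ n, (HomologicalComplex.tensorObj L K).X n →ₗ[A] (HomologicalComplex.tensorObj L' K).X n := fun n =>
    (mapBifunctorDesc (K₁ := L) (K₂ := K) (F := curriedTensor _) (c := ComplexShape.up ℤ) (j := n)
      (A := (HomologicalComplex.tensorObj L' K).X n) fun p q h =>
        if hp : p < m then
          haveI := hi p hp
          ((curriedTensor _).map (inv (ι.f p))).app (K.X q) ≫ ιTensorObj L' K p q n h
        else 0).hom
  have hρ : ∀ n p q (h : p + q = n) (hp : p < m) (z : L'.X p ⊗[A] K.X q),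
      ρ n ((HomologicalComplex.tensorHom ι (𝟙 K)).f n (ins L' K p q n h z)) = ins L' K p q n h z := by
    intro n p q h hp z
    haveI := hi p hp
    rw [map_ins]
    unfold ρ ins
    rw [← LinearMap.comp_apply, ← ModuleCat.hom_comp]
    erw [ι_mapBifunctorDesc]
    rw [dif_pos hp]
    show (((curriedTensor _).map (ι.f p)).app (K.X q) ≫
      ((curriedTensor _).map (inv (ι.f p))).app (K.X q) ≫ ιTensorObj L' K p q n h).hom z = _
    rw [← NatTrans.comp_app_assoc, ← Functor.map_comp, IsIso.hom_inv_id, CategoryTheory.Functor.map_id,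
      NatTrans.id_app, Category.id_comp]
    rfl
  have hρfil : ∀ n (y : (HomologicalComplex.tensorObj L K).X n), y ∈ fil L K n (fun p _ => -(N : ℤ) ≤ p ∧ p ≤ N) →
      ρ n y ∈ fil L' K n (fun p _ => -(N : ℤ) ≤ p ∧ p ≤ N) ∧ (HomologicalComplex.tensorHom ι (𝟙 K)).f n (ρ n y) = y := by
    intro n y hy
    let S' : Submodule A ((HomologicalComplex.tensorObj L K).X n) :=
      (fil L' K n (fun p _ => -(N : ℤ) ≤ p ∧ p ≤ N)).comap (ρ n) ⊓
        LinearMap.ker (((HomologicalComplex.tensorHom ι (𝟙 K)).f n).hom ∘ₗ ρ n - LinearMap.id)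
    have hle : fil L K n (fun p _ => -(N : ℤ) ≤ p ∧ p ≤ N) ≤ S' := by
      refine fil_le L K fun p q h hpq z => ?_
      have hp : p < m := by omega
      haveI := hi p hp
      obtain ⟨z', rfl⟩ : ∃ z', ((ι.f p).hom.rTensor (K.X q)) z' = z :=
        ⟨(inv (ι.f p)).hom.rTensor (K.X q) z, by
          rw [← LinearMap.comp_apply, ← LinearMap.rTensor_comp, ← ModuleCat.hom_comp, IsIso.inv_hom_id,
            ModuleCat.hom_id, LinearMap.rTensor_id, LinearMap.id_apply]⟩
      have e : (HomologicalComplex.tensorHom ι (𝟙 K)).f n (ins L' K p q n h z') =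
          ins L K p q n h ((ι.f p).hom.rTensor (K.X q) z') := by
        rw [map_ins]; rfl
      rw [← e]
      refine Submodule.mem_inf.2 ⟨?_, ?_⟩
      · rw [Submodule.mem_comap, hρ n p q h hp]
        exact ins_mem_fil L' K h hpq _
      · rw [LinearMap.mem_ker, LinearMap.sub_apply, LinearMap.comp_apply,
          LinearMap.id_apply, hρ n p q h hp, sub_self]
    obtain ⟨h1, h2⟩ := Submodule.mem_inf.1 (hle hy)
    rw [LinearMap.mem_ker, LinearMap.sub_apply, LinearMap.comp_apply, LinearMap.id_apply] at h2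
    exact ⟨Submodule.mem_comap.1 h1, sub_eq_zero.1 h2⟩
  obtain ⟨hx', hxe⟩ := hρfil j x hN
  have hLE : ∀ p, m < p → IsZero (L'.X p) := isZero_cut_X L m
  obtain ⟨u, hu⟩ := exact_tensor_bounded K hK L' m hLE j (m + 1 + N).toNat (-(N : ℤ)) (by omega) (ρ j x)
    (fil_mono L' K (fun p q _ (h : -(N : ℤ) ≤ p ∧ p ≤ N) => h.1) hx') (by
      have hcomm : (HomologicalComplex.tensorHom ι (𝟙 K)).f (j + 1) ((HomologicalComplex.tensorObj L' K).d j (j + 1) (ρ j x)) = 0 := by
        rw [← ConcreteCategory.comp_apply, ← HomologicalComplex.Hom.comm, ConcreteCategory.comp_apply, hxe]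
        exact hx
      have hmem : (HomologicalComplex.tensorObj L' K).d j (j + 1) (ρ j x) ∈ fil L' K (j + 1) (fun p _ => p < m) := by
        refine fil_le L' K (N := (fil L' K (j + 1) fun p _ => p < m).comap ((HomologicalComplex.tensorObj L' K).d j (j + 1)).hom)
          (fun p q h hpq z => ?_) hx'
        show (HomologicalComplex.tensorObj L' K).d j (j + 1) (ins L' K p q j h z) ∈ fil L' K (j + 1) fun p _ => p < m
        rw [Groth.L28.TensorQis.d_ins' L' K p q j h (by omega) (by omega)]
        exact add_mem (ins_mem_fil L' K (n := j + 1) (S := fun p _ => p < m) (by omega) (by omega) _)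
          (zsmul_mem (ins_mem_fil L' K (n := j + 1) (S := fun p _ => p < m) (by omega) (by omega) _) _)
      have hfix : ∀ y ∈ fil L' K (j + 1) (fun p _ => p < m),
          ρ (j + 1) ((HomologicalComplex.tensorHom ι (𝟙 K)).f (j + 1) y) = y := fun y hy => by
        have h2 := fil_le L' K (N := LinearMap.ker
          (ρ (j + 1) ∘ₗ ((HomologicalComplex.tensorHom ι (𝟙 K)).f (j + 1)).hom - LinearMap.id)) (fun p q h hpq z => by
            rw [LinearMap.mem_ker, LinearMap.sub_apply, LinearMap.comp_apply, LinearMap.id_apply]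
            exact sub_eq_zero.2 (hρ (j + 1) p q h hpq z)) hy
        rw [LinearMap.mem_ker, LinearMap.sub_apply, LinearMap.comp_apply, LinearMap.id_apply] at h2
        exact sub_eq_zero.1 h2
      rw [← hfix _ hmem, hcomm, map_zero])
  refine ⟨(HomologicalComplex.tensorHom ι (𝟙 K)).f (j - 1) u, ?_⟩
  show (HomologicalComplex.tensorObj L K).d (j - 1) j ((HomologicalComplex.tensorHom ι (𝟙 K)).f (j - 1) u) = x
  rw [← ConcreteCategory.comp_apply, HomologicalComplex.Hom.comm, ConcreteCategory.comp_apply, hu, hxe]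

end Groth.L10.KFlat
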